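import Groth.Agent.Lib.SpRel.Quot

/-!
# Groupoids in sheaves: points
-/

set_option autoImplicit false
set_option backward.isDefEq.respectTransparency false
set_option backward.isDefEq.respectTransparency.types false

universe u

open CategoryTheory CategoryTheory.Limits AlgebraicGeometry

namespace Groth.Agent.Lib.SpRel

open AlgSp (Sp yon GroupoidSp)
open Groth.Agent.Lib.AlgSpace

variable {S : Scheme.{u}} {B : Sp S} (G : GroupoidSp B)

/-- Composition of points. -/
noncomputable abbrev cmp {T : Sp S} (α β : T ⟶ G.R) (h : α ≫ G.s = β ≫ G.t) : T ⟶ G.R :=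
  pullback.lift α β h ≫ G.c

theorem cmp_congr {T : Sp S} {α α' β β' : T ⟶ G.R} (hα : α = α') (hβ : β = β') (h : α ≫ G.s = β ≫ G.t) :
    cmp G α β h = cmp G α' β' (hα ▸ hβ ▸ h) := by
  subst hα hβ
  rfl

theorem comp_cmp {T' T : Sp S} (g : T' ⟶ T) (α β : T ⟶ G.R) (h : α ≫ G.s = β ≫ G.t) :
    g ≫ cmp G α β h = cmp G (g ≫ α) (g ≫ β) (by rw [Category.assoc, h, Category.assoc]) := by
  rw [cmp, cmp, ← Category.assoc]
  congr 1
  exact pullback.hom_ext (by simp) (by simp)

theorem inv_s {T : Sp S} (α : T ⟶ G.R) : (α ≫ G.i) ≫ G.s = α ≫ G.t := by rw [Category.assoc, G.i_s]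

theorem inv_t {T : Sp S} (α : T ⟶ G.R) : (α ≫ G.i) ≫ G.t = α ≫ G.s := by rw [Category.assoc, G.i_t]

/-- `i α ∘ (α ∘ β) = β`. -/
theorem inv_cmp_cancel {T : Sp S} (α β : T ⟶ G.R) (h : α ≫ G.s = β ≫ G.t)
    (h' : (α ≫ G.i) ≫ G.s = cmp G α β h ≫ G.t) : cmp G (α ≫ G.i) (cmp G α β h) h' = β := by
  have a := G.assoc (α ≫ G.i) α β (inv_s G α) h
  refine a.symm.trans (Eq.trans ?_ (G.e_comp β))
  exact cmp_congr G ((G.i_comp α).trans (by rw [← Category.assoc, h, Category.assoc])) rfl _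

/-- `α ∘ (i α ∘ β) = β`. -/
theorem cmp_inv_cancel {T : Sp S} (α β : T ⟶ G.R) (h : (α ≫ G.i) ≫ G.s = β ≫ G.t)
    (h' : α ≫ G.s = cmp G (α ≫ G.i) β h ≫ G.t) : cmp G α (cmp G (α ≫ G.i) β h) h' = β := by
  have a := G.assoc α (α ≫ G.i) β (inv_t G α).symm h
  refine a.symm.trans (Eq.trans ?_ (G.e_comp β))
  refine cmp_congr G ((G.comp_i α).trans ?_) rfl _
  rw [← Category.assoc, ← inv_s G α, h, Category.assoc]

/-- `(γ ∘ i β) ∘ β = γ`. -/
theorem cmp_inv_cmp {T : Sp S} (γ β : T ⟶ G.R) (h : γ ≫ G.s = (β ≫ G.i) ≫ G.t)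
    (h' : cmp G γ (β ≫ G.i) h ≫ G.s = β ≫ G.t) : cmp G (cmp G γ (β ≫ G.i) h) β h' = γ := by
  have a := G.assoc γ (β ≫ G.i) β h (inv_s G β)
  refine a.trans (Eq.trans ?_ (G.comp_e γ))
  refine cmp_congr G rfl ((G.i_comp β).trans ?_) _
  rw [← Category.assoc, ← inv_t G β, ← h, Category.assoc]

/-- `(α ∘ β) ∘ i β = α`. -/
theorem cmp_cmp_inv {T : Sp S} (α β : T ⟶ G.R) (h : α ≫ G.s = β ≫ G.t)
    (h' : cmp G α β h ≫ G.s = (β ≫ G.i) ≫ G.t) : cmp G (cmp G α β h) (β ≫ G.i) h' = α := by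
  have a := G.assoc α β (β ≫ G.i) h (inv_t G β).symm
  refine a.trans (Eq.trans ?_ (G.comp_e α))
  refine cmp_congr G rfl ((G.comp_i β).trans ?_) _
  rw [← Category.assoc, ← h, Category.assoc]

theorem isPreEqvRel : AlgSp.IsPreEqvRelSp G.s G.t := fun T =>
  ⟨fun a => ⟨a ≫ G.e, by rw [Category.assoc, G.e_t, Category.comp_id],
    by rw [Category.assoc, G.e_s, Category.comp_id]⟩,
   by
    rintro _ _ ⟨r, rfl, rfl⟩
    exact ⟨r ≫ G.i, inv_t G r, inv_s G r⟩,
   by
    rintro _ _ _ ⟨r, rfl, rfl⟩ ⟨r', h, rfl⟩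
    exact ⟨cmp G r r' h.symm, G.comp_t r r' h.symm, G.comp_s r r' h.symm⟩⟩

variable {G}

/-- Related points over the restriction lift. -/
theorem exists_restriction_lift {G' : GroupoidSp B} {φ : GroupoidSp.Hom G' G} (hφ : φ.IsRestriction) {T : Sp S}
    (x y : T ⟶ G'.U) (r : T ⟶ G.R) (ht : r ≫ G.t = x ≫ φ.fU) (hs : r ≫ G.s = y ≫ φ.fU) :
    ∃ r' : T ⟶ G'.R, r' ≫ G'.t = x ∧ r' ≫ G'.s = y ∧ r' ≫ φ.fR = r := by
  have hb : x ≫ G'.pU = y ≫ G'.pU := by
    rw [← φ.fU_over, ← Category.assoc, ← Category.assoc, ← ht, ← hs, Category.assoc, Category.assoc, G.t_over,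
      G.s_over]
  have w : r ≫ G.j = pullback.lift x y hb ≫ φ.prodMap := by
    refine pullback.hom_ext ?_ ?_ <;>
      simp only [GroupoidSp.Hom.prodMap, Category.assoc, GroupoidSp.j_fst, GroupoidSp.j_snd, pullback.map,
        pullback.lift_fst, pullback.lift_snd, pullback.lift_fst_assoc, pullback.lift_snd_assoc, ht, hs]
  refine ⟨IsPullback.lift hφ r (pullback.lift x y hb) w, ?_, ?_, IsPullback.lift_fst hφ _ _ _⟩
  · rw [← G'.j_fst, ← Category.assoc, IsPullback.lift_snd hφ, pullback.lift_fst]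
  · rw [← G'.j_snd, ← Category.assoc, IsPullback.lift_snd hφ, pullback.lift_snd]

theorem restriction_hom_ext {G' : GroupoidSp B} {φ : GroupoidSp.Hom G' G} (hφ : φ.IsRestriction) {T : Sp S}
    {r r' : T ⟶ G'.R} (hR : r ≫ φ.fR = r' ≫ φ.fR) (ht : r ≫ G'.t = r' ≫ G'.t) (hs : r ≫ G'.s = r' ≫ G'.s) :
    r = r' := by
  refine IsPullback.hom_ext hφ hR (pullback.hom_ext ?_ ?_)
  · rwa [Category.assoc, Category.assoc, GroupoidSp.j_fst]
  · rwa [Category.assoc, Category.assoc, GroupoidSp.j_snd]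

variable (G)

/-- The square of composition and the source maps is cartesian. -/
theorem isPullback_c : IsPullback G.c (pullback.snd G.s G.t) G.s G.s := by
  have hc : ∀ {T : Sp S} (c : T ⟶ pullback G.s G.t),
      c ≫ G.c = cmp G (c ≫ pullback.fst G.s G.t) (c ≫ pullback.snd G.s G.t)
        (by rw [Category.assoc, pullback.condition, Category.assoc]) := fun c =>
    congrArg (· ≫ G.c) (pullback.hom_ext (by rw [pullback.lift_fst]) (by rw [pullback.lift_snd]))
  refine isPullback_of_yon ?_ (fun T c c' h₁ h₂ => pullback.hom_ext ?_ h₂) fun T γ β h => ?_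
  · refine Groth.Agent.Lib.AlgSpace.hom_ext fun T c => ?_
    rw [← Category.assoc, hc, G.comp_s, Category.assoc]
  · rw [hc, hc] at h₁
    have hh : ∀ c : (yon S).obj T ⟶ pullback G.s G.t,
        cmp G (c ≫ pullback.fst G.s G.t) (c ≫ pullback.snd G.s G.t)
            (by rw [Category.assoc, pullback.condition, Category.assoc]) ≫ G.s =
          ((c ≫ pullback.snd G.s G.t) ≫ G.i) ≫ G.t := fun c => by rw [inv_t, G.comp_s]
    refine ((cmp_cmp_inv G _ _ _ (hh c)).symm.trans ?_).trans (cmp_cmp_inv G _ _ _ (hh c'))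
    exact cmp_congr G h₁ (congrArg (· ≫ G.i) h₂) _
  · have h1 : γ ≫ G.s = (β ≫ G.i) ≫ G.t := by rw [inv_t, h]
    have h2 : cmp G γ (β ≫ G.i) h1 ≫ G.s = β ≫ G.t := by rw [G.comp_s, inv_s]
    exact ⟨pullback.lift _ β h2, cmp_inv_cmp G γ β h1 h2, pullback.lift_snd _ _ _⟩

/-- The shear map is an isomorphism. -/
theorem isIso_shear (φ : pullback G.t G.t ⟶ pullback G.s G.t)
    (h₁ : φ ≫ pullback.fst G.s G.t = pullback.fst G.t G.t)
    (h₂ : φ ≫ pullback.snd G.s G.t = cmp G (pullback.fst G.t G.t ≫ G.i) (pullback.snd G.t G.t)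
      ((inv_s G _).trans pullback.condition)) :
    IsIso φ ∧ φ ≫ G.c = pullback.snd G.t G.t := by
  have e : φ ≫ G.c = pullback.snd G.t G.t := by
    have hl : φ = pullback.lift (pullback.fst G.t G.t) _
        ((inv_t G _).symm.trans (G.comp_t (pullback.fst G.t G.t ≫ G.i) (pullback.snd G.t G.t)
          ((inv_s G _).trans pullback.condition)).symm) :=
      pullback.hom_ext (h₁.trans (pullback.lift_fst _ _ _).symm) (h₂.trans (pullback.lift_snd _ _ _).symm)
    rw [hl]
    exact cmp_inv_cancel G _ _ _ _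
  let ψ : pullback G.s G.t ⟶ pullback G.t G.t := pullback.lift (pullback.fst G.s G.t) G.c (by
    have := G.comp_t (pullback.fst G.s G.t) (pullback.snd G.s G.t) pullback.condition
    rw [show pullback.lift (pullback.fst G.s G.t) (pullback.snd G.s G.t) pullback.condition = 𝟙 _ from
      pullback.hom_ext (by simp) (by simp), Category.id_comp] at this
    exact this.symm)
  refine ⟨⟨ψ, pullback.hom_ext ?_ ?_, pullback.hom_ext ?_ ?_⟩, e⟩
  · rw [Category.assoc, pullback.lift_fst, h₁, Category.id_comp]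
  · rw [Category.assoc, pullback.lift_snd, e, Category.id_comp]
  · rw [Category.assoc, h₁, pullback.lift_fst, Category.id_comp]
  · rw [Category.assoc, h₂, Category.id_comp, comp_cmp]
    refine Eq.trans ?_ (inv_cmp_cancel G (pullback.fst G.s G.t) (pullback.snd G.s G.t) pullback.condition ?_)
    · exact cmp_congr G (by rw [← Category.assoc, pullback.lift_fst])
        (by rw [pullback.lift_snd, cmp, show pullback.lift (pullback.fst G.s G.t) (pullback.snd G.s G.t)
          pullback.condition = 𝟙 _ from pullback.hom_ext (by simp) (by simp), Category.id_comp]) _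

variable {G}

/-- The arrows of a restriction. -/
theorem isPullback_restriction {G' : GroupoidSp B} {φ : GroupoidSp.Hom G' G} (hφ : φ.IsRestriction) :
    IsPullback (pullback.lift G'.t φ.fR φ.comm_t.symm) G'.s (pullback.snd φ.fU G.t ≫ G.s) φ.fU := by
  refine isPullback_of_yon ?_ (fun T c c' h₁ h₂ => ?_) fun T a y h => ?_
  · rw [pullback.lift_snd_assoc, φ.comm_s]
  · refine restriction_hom_ext hφ ?_ ?_ h₂
    · simpa only [Category.assoc, pullback.lift_snd] using congrArg (· ≫ pullback.snd φ.fU G.t) h₁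
    · simpa only [Category.assoc, pullback.lift_fst] using congrArg (· ≫ pullback.fst φ.fU G.t) h₁
  · obtain ⟨r', h1, h2, h3⟩ := exists_restriction_lift hφ (a ≫ pullback.fst φ.fU G.t) y (a ≫ pullback.snd φ.fU G.t)
      (by rw [Category.assoc, Category.assoc, pullback.condition]) (by rw [Category.assoc]; exact h)
    refine ⟨r', pullback.hom_ext ?_ ?_, h2⟩
    · rw [Category.assoc, pullback.lift_fst, h1]
    · rw [Category.assoc, pullback.lift_snd, h3]

end Groth.Agent.Lib.SpRel
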