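import Groth.Agent.Lib.AlgSpace.Points
import Groth.Prelude.Def_AlgSpGpd

/-!
# The relation on points induced by a pre-equivalence relation of spaces
-/

set_option autoImplicit false

universe u

open CategoryTheory CategoryTheory.Limits AlgebraicGeometry

namespace Groth.Agent.Lib.SpRel

open AlgSp (Sp yon Points)
open Groth.Agent.Lib.AlgSpace

variable {S : Scheme.{u}} {R U : Sp S}

theorem points_rel_equivalence (s t : R ⟶ U) (h : AlgSp.IsPreEqvRelSp s t) :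
    _root_.Equivalence (fun x y : Points U => ∃ r : Points R, Points.map t r = x ∧ Points.map s r = y) := by
  refine ⟨fun x => ?_, ?_, ?_⟩
  · obtain ⟨T, a, u, rfl⟩ := exists_ofPt_eq x
    obtain ⟨r, h₁, h₂⟩ := (h T).refl a
    exact ⟨Points.ofPt r u, by rw [Points.map_ofPt, h₁], by rw [Points.map_ofPt, h₂]⟩
  · rintro _ _ ⟨r, rfl, rfl⟩
    obtain ⟨T, a, u, rfl⟩ := exists_ofPt_eq r
    obtain ⟨r', h₁, h₂⟩ := (h T).symm (x := a ≫ t) (y := a ≫ s) ⟨a, rfl, rfl⟩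
    exact ⟨Points.ofPt r' u, by rw [Points.map_ofPt, h₁, Points.map_ofPt],
      by rw [Points.map_ofPt, h₂, Points.map_ofPt]⟩
  · rintro _ _ _ ⟨r, rfl, rfl⟩ ⟨r', e, rfl⟩
    obtain ⟨T, a, u, rfl⟩ := exists_ofPt_eq r
    obtain ⟨T', b, v, rfl⟩ := exists_ofPt_eq r'
    rw [Points.map_ofPt, Points.map_ofPt, ofPt_eq_ofPt_iff] at e
    obtain ⟨W, p, q, w, rfl, rfl, e⟩ := e
    have e' : ((yon S).map q ≫ a) ≫ s = ((yon S).map p ≫ b) ≫ t := by
      rw [Category.assoc, Category.assoc]; exact e.symm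
    obtain ⟨r'', h₁, h₂⟩ := (h W).trans (x := ((yon S).map q ≫ a) ≫ t) (y := ((yon S).map q ≫ a) ≫ s)
      (z := ((yon S).map p ≫ b) ≫ s) ⟨_, rfl, rfl⟩ ⟨_, e'.symm, rfl⟩
    exact ⟨Points.ofPt r'' w,
      by rw [Points.map_ofPt, h₁, Category.assoc, ofPt_yon_map_comp, Points.map_ofPt],
      by rw [Points.map_ofPt, h₂, Category.assoc, ofPt_yon_map_comp, Points.map_ofPt]⟩

end Groth.Agent.Lib.SpRel
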