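import Groth.Prelude.Def_AlgSpGpd
import Groth.Agent.Lib.AlgSpace.Coprod
import Groth.Agent.Lib.AlgSpace.QuotGrpd
import Groth.Agent.Lib.AlgSpace.Local
import Mathlib.CategoryTheory.Sites.LocallyBijective

/-!
# Equality in the quotient of a pre-equivalence relation
-/

set_option autoImplicit false
set_option backward.isDefEq.respectTransparency false
set_option backward.isDefEq.respectTransparency.types false

universe u

open CategoryTheory CategoryTheory.Limits AlgebraicGeometry Opposite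

namespace Groth.Agent.Lib.SpRel

open AlgSp (Sp yon IsPreEqvRelSp quotSp quotSpπ quotSpDesc quotSpπ_desc)
open Groth.Agent.Lib.AlgSpace

variable {S : Scheme.{u}} {R U : Sp S} {s t : R ⟶ U}

/-- Points up to the relation. -/
def relSetoid (h : IsPreEqvRelSp s t) (T : Over S) : Setoid ((yon S).obj T ⟶ U) :=
  ⟨_, h T⟩

/-- The presheaf of points up to the relation. -/
noncomputable def relQuot (h : IsPreEqvRelSp s t) : (Over S)ᵒᵖ ⥤ Type (u + 1) where
  obj T := Quotient (relSetoid h T.unop)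
  map {T T'} f := ↾(Quotient.map (fun a ↦ (yon S).map f.unop ≫ a) fun a b ⟨r, h1, h2⟩ ↦
    ⟨(yon S).map f.unop ≫ r, by rw [Category.assoc, h1], by rw [Category.assoc, h2]⟩)
  map_id T := by
    ext x
    induction x using Quotient.inductionOn
    refine congrArg (Quotient.mk _) ?_
    exact (congrArg (· ≫ _) ((yon S).map_id _)).trans (Category.id_comp _)
  map_comp f g := by
    ext x
    induction x using Quotient.inductionOn
    refine congrArg (Quotient.mk _) ?_
    exact (congrArg (· ≫ _) ((yon S).map_comp _ _)).trans (Category.assoc _ _ _)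

/-- The map to the presheaf of points up to the relation. -/
noncomputable def toRelQuot (h : IsPreEqvRelSp s t) : U.obj ⟶ relQuot h where
  app T := ↾fun x ↦ Quotient.mk (relSetoid h T.unop) ((secEquiv T.unop).symm x)
  naturality T T' f := by
    ext x
    exact congrArg (Quotient.mk _) (yon_map_comp_secEquiv_symm f.unop x).symm

/-- Points with equal images in the quotient are locally related. -/
theorem exists_rel_of_quotSpπ_eq (h : IsPreEqvRelSp s t) {T : Over S} {a b : (yon S).obj T ⟶ U}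
    (e : a ≫ quotSpπ s t = b ≫ quotSpπ s t) :
    ∃ (T' : Over S) (p : T' ⟶ T) (r : (yon S).obj T' ⟶ R),
      fppfCover p.left ∧ r ≫ t = (yon S).map p ≫ a ∧ r ≫ s = (yon S).map p ≫ b := by
  let Q' : Sp S := (presheafToSheaf (AlgSp.J S) (Type (u + 1))).obj (relQuot h)
  let q : U ⟶ Q' := ObjectProperty.homMk (toRelQuot h ≫ toSheafify (AlgSp.J S) (relQuot h))
  have hw : s ≫ q = t ≫ q := by
    ext T r
    refine congrArg ((toSheafify (AlgSp.J S) (relQuot h)).app T) (Quotient.sound (s := relSetoid h T.unop) ?_)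
    refine (h T.unop).symm ⟨(secEquiv T.unop).symm r, ?_, ?_⟩ <;> exact secEquiv_symm_comp r _
  have e' : secEquiv T (a ≫ q) = secEquiv T (b ≫ q) := by
    have := congrArg (· ≫ quotSpDesc q hw) e
    simp only [Category.assoc, quotSpπ_desc] at this
    rw [this]
  rw [secEquiv_comp, secEquiv_comp] at e'
  have hmem := Presheaf.equalizerSieve_mem (AlgSp.J S) (toSheafify (AlgSp.J S) (relQuot h))
    ((toRelQuot h).app (op T) (secEquiv T a)) ((toRelQuot h).app (op T) (secEquiv T b)) e'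
  obtain ⟨κ, Z, g, p, hp, hpg, hσ⟩ := exists_fppfCover_of_mem hmem
  have hr : ∀ k, ∃ r : (yon S).obj (Z k) ⟶ R,
      r ≫ t = (yon S).map (g k) ≫ a ∧ r ≫ s = (yon S).map (g k) ≫ b := fun k => by
    obtain ⟨r, h1, h2⟩ := Quotient.exact (s := relSetoid h (Z k)) (hσ k)
    rw [Equiv.symm_apply_apply] at h1 h2
    exact ⟨r, h1, h2⟩
  choose r hr₁ hr₂ using hr
  have hc := isColimitSigmaOver (S := S) Z
  refine ⟨sigmaOver Z, p, Cofan.IsColimit.desc hc r, hp, Cofan.IsColimit.hom_ext hc _ _ fun k => ?_,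
    Cofan.IsColimit.hom_ext hc _ _ fun k => ?_⟩
  · rw [← Category.assoc, Cofan.IsColimit.fac, hr₁, ← hpg, Functor.map_comp, Category.assoc]
    rfl
  · rw [← Category.assoc, Cofan.IsColimit.fac, hr₂, ← hpg, Functor.map_comp, Category.assoc]
    rfl

/-- Injectivity of the map of quotients along a map lifting related pairs. -/
theorem mono_of_lift_rel (h : IsPreEqvRelSp s t) {R' U' : Sp S} {s' t' : R' ⟶ U'} (g : U' ⟶ U)
    (hlift : ∀ (T : Over S) (x y : (yon S).obj T ⟶ U') (r : (yon S).obj T ⟶ R),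
      r ≫ t = x ≫ g → r ≫ s = y ≫ g → ∃ r' : (yon S).obj T ⟶ R', r' ≫ t' = x ∧ r' ≫ s' = y)
    (ψ : quotSp s' t' ⟶ quotSp s t) (hψ : quotSpπ s' t' ≫ ψ = g ≫ quotSpπ s t) : Mono ψ := by
  haveI : Epi (quotSpπ s' t') := coequalizer.π_epi
  haveI : Sheaf.IsLocallySurjective (quotSpπ s' t') :=
    (Sheaf.isLocallySurjective_iff_epi' (Type (u + 1)) _).2 inferInstance
  refine mono_of_yon ψ fun T a b (hab : a ≫ ψ = b ≫ ψ) => ?_
  obtain ⟨T₁, p₁, x, hp₁, hx⟩ := exists_lift_of_isLocallySurjective (quotSpπ s' t') a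
  obtain ⟨T₂, p₂, y, hp₂, hy⟩ := exists_lift_of_isLocallySurjective (quotSpπ s' t') ((yon S).map p₁ ≫ b)
  have e : ((yon S).map p₂ ≫ x ≫ g) ≫ quotSpπ s t = (y ≫ g) ≫ quotSpπ s t := by
    rw [Category.assoc, Category.assoc, Category.assoc, ← hψ, reassoc_of% hx, reassoc_of% hy, hab]
  obtain ⟨T₃, p₃, r, hp₃, h1, h2⟩ := exists_rel_of_quotSpπ_eq h e
  obtain ⟨r', h1', h2'⟩ := hlift T₃ ((yon S).map p₃ ≫ (yon S).map p₂ ≫ x) ((yon S).map p₃ ≫ y) r
    (by rw [h1, Category.assoc, Category.assoc]) (by rw [h2, Category.assoc])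
  have e' : ((yon S).map p₃ ≫ (yon S).map p₂ ≫ x) ≫ quotSpπ s' t' =
      ((yon S).map p₃ ≫ y) ≫ quotSpπ s' t' := by
    rw [← h1', ← h2', Category.assoc, Category.assoc, AlgSp.quotSp_condition]
  simp only [Category.assoc, hx, hy] at e'
  haveI := epi_yon_map p₁ hp₁
  haveI := epi_yon_map p₂ hp₂
  haveI := epi_yon_map p₃ hp₃
  rwa [cancel_epi, cancel_epi, cancel_epi] at e'

end Groth.Agent.Lib.SpRel
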