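import Groth.Agent.Lib.SpRel.Grpd
import Groth.Agent.Lib.AlgSpMor.Sep
import Groth.Agent.Lib.AlgSpMor.QC

/-!
# Separation of a groupoid, of its stabilizer and of the unit
-/

set_option autoImplicit false
set_option backward.isDefEq.respectTransparency false
set_option backward.isDefEq.respectTransparency.types false

universe u

open CategoryTheory CategoryTheory.Limits AlgebraicGeometry

namespace Groth.Agent.Lib.SpRel

open AlgSp (Sp yon GroupoidSp RepWith Representable IsAlgSpace)
open Groth.Agent.Lib.AlgSpace

variable {S : Scheme.{u}} {B : Sp S} (G : GroupoidSp B)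

theorem stabilizerToU_eq : G.stabilizerToU = G.stabilizerι ≫ G.t := by
  have h : G.stabilizerι ≫ G.j = G.stabilizerToU ≫ G.diag := pullback.condition
  have h' := congrArg (· ≫ pullback.fst G.pU G.pU) h
  simp only [GroupoidSp.diag, Category.assoc, GroupoidSp.j_fst, pullback.lift_fst] at h'
  exact ((Category.comp_id _).symm.trans h'.symm)

variable {eG : G.U ⟶ G.stabilizer} (heG : eG ≫ G.stabilizerι = G.e)

include heG in
theorem eG_comp : eG ≫ G.stabilizerToU = 𝟙 G.U := by
  rw [stabilizerToU_eq, reassoc_of% heG, G.e_t]

theorem repWith_diagonal_stab {P : MorphismProperty Scheme.{u}} (h : RepWith P (pullback.diagonal G.j)) :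
    RepWith P (pullback.diagonal G.stabilizerToU) :=
  AlgSpMor.Sep.repWith_diagonal_baseChange (IsPullback.of_hasPullback G.j G.diag) h

include heG in
theorem repWith_eG {P : MorphismProperty Scheme.{u}} (h : RepWith P (pullback.diagonal G.stabilizerToU)) :
    RepWith P eG :=
  repWith_baseChange (AlgSpMor.Sep.isPullback_section G.stabilizerToU eG (eG_comp G heG)) h

theorem fst_t_eq : pullback.fst G.j G.j ≫ G.t = pullback.snd G.j G.j ≫ G.t := by
  have h := congrArg (· ≫ pullback.fst G.pU G.pU) (pullback.condition (f := G.j) (g := G.j))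
  simpa only [Category.assoc, GroupoidSp.j_fst] using h

theorem fst_s_eq : pullback.fst G.j G.j ≫ G.s = pullback.snd G.j G.j ≫ G.s := by
  have h := congrArg (· ≫ pullback.snd G.pU G.pU) (pullback.condition (f := G.j) (g := G.j))
  simpa only [Category.assoc, GroupoidSp.j_snd] using h

/-- The difference of two parallel arrows. -/
noncomputable def diffArrow : pullback G.j G.j ⟶ G.stabilizer :=
  pullback.lift (cmp G (pullback.fst G.j G.j ≫ G.i) (pullback.snd G.j G.j) ((inv_s G _).trans (fst_t_eq G)))
    (pullback.snd G.j G.j ≫ G.s) (by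
      refine pullback.hom_ext ?_ ?_
      · simp only [GroupoidSp.diag, Category.assoc, GroupoidSp.j_fst, pullback.lift_fst, Category.comp_id]
        rw [← Category.assoc (pullback.lift _ _ _), G.comp_t, inv_t, fst_s_eq]
      · simp only [GroupoidSp.diag, Category.assoc, GroupoidSp.j_snd, pullback.lift_snd, Category.comp_id]
        rw [← Category.assoc (pullback.lift _ _ _), G.comp_s])

include heG in
theorem isPullback_diagonal_j : IsPullback G.s (pullback.diagonal G.j) eG (diffArrow G) := by
  have hU : eG ≫ G.stabilizerToU = 𝟙 G.U := eG_comp G heG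
  have hdiff : ∀ {T : Sp S} (b : T ⟶ pullback G.j G.j),
      (b ≫ diffArrow G) ≫ G.stabilizerι = cmp G ((b ≫ pullback.fst G.j G.j) ≫ G.i) (b ≫ pullback.snd G.j G.j)
        ((inv_s G _).trans (by rw [Category.assoc, Category.assoc, fst_t_eq])) := fun b => by
    rw [Category.assoc, diffArrow, GroupoidSp.stabilizerι, pullback.lift_fst, comp_cmp]
    exact cmp_congr G (Category.assoc _ _ _).symm rfl _
  refine isPullback_of_yon ?_ (fun T c c' _ h₂ => ?_) fun T u b h => ?_
  · refine pullback.hom_ext ?_ ?_
    · refine Eq.trans ?_ ((Category.assoc _ _ _).symm.trans (hdiff (pullback.diagonal G.j))).symm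
      rw [Category.assoc]
      refine (congrArg (G.s ≫ ·) heG).trans ?_
      refine ((Category.id_comp _).symm.trans (G.i_comp (𝟙 G.R)).symm).trans ?_
      exact cmp_congr G (by rw [pullback.diagonal_fst]) (by rw [pullback.diagonal_snd]) _
    · simp only [Category.assoc, diffArrow, pullback.lift_snd]
      rw [show eG ≫ pullback.snd G.j G.diag = 𝟙 _ from hU, Category.comp_id, ← Category.assoc,
        pullback.diagonal_snd, Category.id_comp]
  · have := congrArg (· ≫ pullback.fst G.j G.j) h₂
    simpa only [Category.assoc, pullback.diagonal_fst, Category.comp_id] using this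
  · have h1 := congrArg (· ≫ G.stabilizerι) h
    simp only [hdiff, Category.assoc] at h1
    rw [heG] at h1
    let α := b ≫ pullback.fst G.j G.j
    let β := b ≫ pullback.snd G.j G.j
    have hst : (α ≫ G.i) ≫ G.s = β ≫ G.t := by
      rw [inv_s]; simp only [α, β, Category.assoc]; rw [fst_t_eq]
    have h1' : cmp G (α ≫ G.i) β hst = u ≫ G.e :=
      (cmp_congr G (Category.assoc _ _ _) rfl _).trans h1.symm
    have hu : u = β ≫ G.s := by
      have := congrArg (· ≫ G.s) h1'
      rw [G.comp_s] at this
      rw [this, Category.assoc, G.e_s, Category.comp_id]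
    have hαs : α ≫ G.s = β ≫ G.s := by
      simp only [α, β, Category.assoc, fst_s_eq]
    have hαβ : β = α := by
      have e := cmp_inv_cancel G α β hst (by rw [G.comp_t, inv_t])
      refine e.symm.trans (Eq.trans ?_ (G.comp_e α))
      exact cmp_congr G rfl (h1'.trans (by rw [hu, ← hαs, Category.assoc])) _
    refine ⟨α, ?_, pullback.hom_ext ?_ ?_⟩
    · rw [hu, hαs]
    · simp only [Category.assoc, pullback.diagonal_fst, Category.comp_id]; rfl
    · simp only [Category.assoc, pullback.diagonal_snd, Category.comp_id]; exact hαβ.symm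

include heG in
theorem repWith_diagonal_j {P : MorphismProperty Scheme.{u}} (h : RepWith P eG) :
    RepWith P (pullback.diagonal G.j) :=
  repWith_baseChange (isPullback_diagonal_j G heG) h

end Groth.Agent.Lib.SpRel
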